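import Groth.Prelude.Def_EtBase
import Groth.Agent.Hensel.Etale
import Groth.Agent.EtStalk.Sheaf
import Mathlib

/-!
Etale neighbourhoods of the closed point of a strictly henselian local ring split.
-/

universe u

open CategoryTheory CategoryTheory.Limits AlgebraicGeometry Opposite

set_option backward.isDefEq.respectTransparency false

namespace Groth.Agent.EtHens

variable (R : Type u) [CommRing R] [HenselianLocalRing R]

/-- the closed geometric point -/
noncomputable abbrev pt : Spec (CommRingCat.of (IsLocalRing.ResidueField R)) ⟶ Spec (CommRingCat.of R) :=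
  Spec.map (CommRingCat.ofHom (IsLocalRing.residue R))

/-- A lift of the closed point to an etale scheme extends to a section. -/
theorem exists_section (W : (Spec (CommRingCat.of R)).Etale)
    (w : Over.mk (pt R) ⟶ (Scheme.Etale.forget (Spec (CommRingCat.of R))).obj W) :
    ∃ s : Spec (CommRingCat.of R) ⟶ W.left, s ≫ W.hom = 𝟙 _ ∧ pt R ≫ s = w.left := by
  let q : W.left ⟶ Spec (CommRingCat.of R) := W.hom
  have hq : Etale q := W.prop
  have hwq : w.left ≫ q = pt R := Over.w w
  obtain ⟨U, hU, hxU, -⟩ := exists_isAffineOpen_mem_and_subset (X := W.left)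
    (x := w.left (default : Spec (CommRingCat.of (IsLocalRing.ResidueField R)))) (U := ⊤) trivial
  have hr : Set.range w.left ⊆ Set.range hU.fromSpec := by
    rintro _ ⟨z, rfl⟩
    rw [hU.range_fromSpec, Subsingleton.elim (α := Spec (CommRingCat.of (IsLocalRing.ResidueField R))) z default]
    exact hxU
  obtain ⟨φ, hφ⟩ := Spec.map_surjective (hU.fromSpec ≫ q)
  obtain ⟨σ, hσ⟩ := Spec.map_surjective (IsOpenImmersion.lift hU.fromSpec w.left hr)
  have hE : Etale (Spec.map φ) := by rw [hφ]; infer_instance
  algebraize [φ.hom]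
  have : Algebra.Etale R Γ(W.left, U) := (HasRingHomProperty.Spec_iff (P := @AlgebraicGeometry.Etale)).mp hE
  have hc : φ ≫ σ = CommRingCat.ofHom (IsLocalRing.residue R) := by
    apply Spec.map_injective
    rw [Spec.map_comp, hσ, hφ, ← Category.assoc, IsOpenImmersion.lift_fac, hwq]
  let σ' : Γ(W.left, U) →ₐ[R] R ⧸ IsLocalRing.maximalIdeal R :=
    { toRingHom := σ.hom
      commutes' := fun r => congr($hc r) }
  obtain ⟨τ, hτ, -⟩ := Groth.Agent.Hensel.existsUnique_algHom_lift σ'
  refine ⟨Spec.map (CommRingCat.ofHom τ.toRingHom) ≫ hU.fromSpec, ?_, ?_⟩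
  · rw [Category.assoc]
    refine (congrArg (Spec.map (CommRingCat.ofHom τ.toRingHom) ≫ ·) hφ.symm).trans ?_
    rw [← Spec.map_comp, ← Spec.map_id]
    congr 1
    ext r
    exact τ.commutes r
  · rw [← IsOpenImmersion.lift_fac hU.fromSpec w.left hr, ← hσ, ← Category.assoc, ← Spec.map_comp]
    congr 2
    ext x
    exact hτ x

/-- the tautological neighbourhood -/
noncomputable abbrev pt₀ :
    Over.mk (pt R) ⟶ (Scheme.Etale.forget (Spec (CommRingCat.of R))).obj (EtCoh.top (Spec (CommRingCat.of R))) :=
  Over.homMk (pt R) (Category.comp_id _)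

theorem exists_factor (W : (Spec (CommRingCat.of R)).Etale)
    (w : Over.mk (pt R) ⟶ (Scheme.Etale.forget (Spec (CommRingCat.of R))).obj W) :
    ∃ a : EtCoh.top (Spec (CommRingCat.of R)) ⟶ W,
      pt₀ R ≫ (Scheme.Etale.forget (Spec (CommRingCat.of R))).map a = w := by
  obtain ⟨s, hs, hs'⟩ := exists_section R W w
  exact ⟨MorphismProperty.Over.homMk s hs, Over.OverMorphism.ext hs'⟩

variable [IsSepClosed (IsLocalRing.ResidueField R)] (F : EtCoh.Ab (Spec (CommRingCat.of R)))

theorem bijective_germ : Function.Bijective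
    ((Scheme.pointSmallEtale (pt R)).toPresheafFiber (EtCoh.top (Spec (CommRingCat.of R))) (pt₀ R) F.obj) := by
  constructor
  · intro t₁ t₂ h
    obtain ⟨W, g, w, hw, h'⟩ :=
      (GrothendieckTopology.Point.toPresheafFiber_eq_iff' _ _ _ t₁ t₂).mp h
    obtain ⟨a, ha⟩ := exists_factor R W w
    have hid : a ≫ g = 𝟙 _ := by
      refine MorphismProperty.Over.Hom.ext ?_
      have h1 : (a ≫ g).left ≫ 𝟙 _ = 𝟙 _ := MorphismProperty.Over.w (a ≫ g)
      exact (Category.comp_id _).symm.trans h1
    have := congrArg (F.obj.map a.op) h'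
    rw [← ConcreteCategory.comp_apply, ← ConcreteCategory.comp_apply, ← Functor.map_comp, ← op_comp, hid] at this
    simpa using this
  · intro z
    obtain ⟨W, w, t, rfl⟩ := (Scheme.pointSmallEtale (pt R)).toPresheafFiber_jointly_surjective (P := F.obj) z
    obtain ⟨a, ha⟩ := exists_factor R W w
    refine ⟨F.obj.map a.op t, ?_⟩
    refine (GrothendieckTopology.Point.toPresheafFiber_w_apply (Scheme.pointSmallEtale (pt R)) a (pt₀ R) F.obj t).trans ?_
    congr 3

/-- the final object of the small etale site -/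
noncomputable def isTerminalTop (X : Scheme.{u}) : IsTerminal (EtCoh.top X) :=
  IsTerminal.ofUniqueHom (fun V => MorphismProperty.Over.homMk V.hom (Category.comp_id _))
    (fun V m => MorphismProperty.Over.Hom.ext ((Category.comp_id _).symm.trans (MorphismProperty.Over.w m)))

theorem surjective_sections {G : EtCoh.Ab (Spec (CommRingCat.of R))} (e : F ⟶ G) [he : Epi e] :
    Function.Surjective (e.hom.app (op (EtCoh.top (Spec (CommRingCat.of R))))) := by
  intro y
  obtain ⟨z, hz⟩ := (Groth.Agent.EtStalk.epi_iff e).mp he _ (pt R)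
    ((Scheme.pointSmallEtale (pt R)).toPresheafFiber (EtCoh.top _) (pt₀ R) G.obj y)
  obtain ⟨x, rfl⟩ := (bijective_germ R F).2 z
  refine ⟨x, (bijective_germ R G).1 ?_⟩
  rw [← hz]
  exact (GrothendieckTopology.Point.toPresheafFiber_naturality_apply _ e.hom _ _ x).symm

theorem projective_const (M : AddCommGrpCat.{u + 1}) [Projective M] :
    Projective ((constantSheaf (Spec (CommRingCat.of R)).smallEtaleTopology AddCommGrpCat.{u + 1}).obj M) := by
  let adj := constantSheafAdj (Spec (CommRingCat.of R)).smallEtaleTopology AddCommGrpCat.{u + 1}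
    (isTerminalTop (Spec (CommRingCat.of R)))
  refine ⟨fun {E X} f e he => ?_⟩
  have : Epi (((sheafSections _ _).obj (op (EtCoh.top (Spec (CommRingCat.of R))))).map e) :=
    (AddCommGrpCat.epi_iff_surjective _).mpr (surjective_sections R E e)
  obtain ⟨l, hl⟩ := Projective.factors (adj.homEquiv _ _ f)
    (((sheafSections _ _).obj (op (EtCoh.top (Spec (CommRingCat.of R))))).map e)
  refine ⟨(adj.homEquiv _ _).symm l, ?_⟩
  rw [← adj.homEquiv_naturality_right_symm, hl, Equiv.symm_apply_apply]

end Groth.Agent.EtHens
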